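import Cfsg.Agent.H577.KGV.NormGen

/-!
# Existence of norm compatible primitive elements (KGV, NT6a)
-/

set_option autoImplicit false

namespace Cfsg.Agent.H450.KGV

open Cfsg.Agent.H577.KGV

section Seq

variable {K : Type*} [Field K] [IsSepClosed K]

/-- Lifting a primitive `N`-th root of unity to a primitive `M`-th root of unity. -/
theorem exists_lift {M N : ℕ} (hNM : N ∣ M) (hM : ((M : ℕ) : K) ≠ 0) {x : K}
    (hx : IsPrimitiveRoot x N) : ∃ y : K, IsPrimitiveRoot y M ∧ y ^ (M / N) = x := by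
  have hM0 : M ≠ 0 := by
    rintro rfl
    simp at hM
  have hN0 : N ≠ 0 := by
    rintro rfl
    exact hM0 (Nat.eq_zero_of_zero_dvd hNM)
  have : NeZero M := ⟨hM0⟩
  have : NeZero N := ⟨hN0⟩
  have : NeZero ((M : ℕ) : K) := ⟨hM⟩
  obtain ⟨ζ, hζ⟩ := HasEnoughRootsOfUnity.exists_primitiveRoot K M
  have hMN : M = (M / N) * N := (Nat.div_mul_cancel hNM).symm
  have hζN : IsPrimitiveRoot (ζ ^ (M / N)) N := hζ.pow (Nat.pos_of_ne_zero hM0) hMN
  obtain ⟨i, hi, hic, hix⟩ := (hζN.isPrimitiveRoot_iff).1 hx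
  obtain ⟨u, hu⟩ := ZMod.unitsMap_surjective hNM (ZMod.unitOfCoprime i hic)
  have hju : ((u : ZMod M).val : ZMod N) = (i : ZMod N) := by
    have h1 := congrArg (fun w : (ZMod N)ˣ => (w : ZMod N)) hu
    simp only [ZMod.unitsMap_val, ZMod.coe_unitOfCoprime] at h1
    rw [← h1, ZMod.cast_eq_val]
  have hjc : Nat.Coprime (u : ZMod M).val M := ZMod.val_coe_unit_coprime u
  refine ⟨ζ ^ (u : ZMod M).val, hζ.pow_of_coprime _ hjc, ?_⟩
  rw [← hix, ← pow_mul, mul_comm, pow_mul]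
  have h2 : (u : ZMod M).val ≡ i [MOD N] := (ZMod.natCast_eq_natCast_iff _ _ _).1 hju
  have h3 := hζN.eq_orderOf
  rw [← pow_mod_orderOf, ← h3, show (u : ZMod M).val % N = i % N from h2]
  conv_rhs => rw [← pow_mod_orderOf, ← h3]

variable (N : ℕ → ℕ) (hd : ∀ n, N n ∣ N (n + 1)) (hN : ∀ n, ((N n : ℕ) : K) ≠ 0)

include hd hN

theorem exists_seq : ∃ δ : ℕ → K, (∀ n, IsPrimitiveRoot (δ n) (N n)) ∧
    ∀ n, δ (n + 1) ^ (N (n + 1) / N n) = δ n := by
  have h0 : ∃ x : K, IsPrimitiveRoot x (N 0) := by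
    have : NeZero ((N 0 : ℕ) : K) := ⟨hN 0⟩
    exact HasEnoughRootsOfUnity.exists_primitiveRoot K (N 0)
  obtain ⟨x0, hx0⟩ := h0
  let step : ∀ n, {x : K // IsPrimitiveRoot x (N n)} → {x : K // IsPrimitiveRoot x (N (n + 1))} :=
    fun n x => ⟨(exists_lift (hd n) (hN (n + 1)) x.2).choose,
      (exists_lift (hd n) (hN (n + 1)) x.2).choose_spec.1⟩
  let δ : ∀ n, {x : K // IsPrimitiveRoot x (N n)} := fun n =>
    Nat.rec (motive := fun n => {x : K // IsPrimitiveRoot x (N n)}) ⟨x0, hx0⟩ step n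
  refine ⟨fun n => (δ n : K), fun n => (δ n).2, fun n => ?_⟩
  exact (exists_lift (hd n) (hN (n + 1)) (δ n).2).choose_spec.2

theorem exists_seq' : ∃ δ : ℕ → K, (∀ n, IsPrimitiveRoot (δ n) (N n)) ∧
    ∀ n m, n ≤ m → N n ∣ N m ∧ δ m ^ (N m / N n) = δ n := by
  obtain ⟨δ, h1, h2⟩ := exists_seq (K := K) N hd hN
  have hpos : ∀ n, 0 < N n := fun n => Nat.pos_of_ne_zero (by
    intro h
    exact hN n (by rw [h]; simp))
  refine ⟨δ, h1, fun n m hnm => ?_⟩
  induction m, hnm using Nat.le_induction with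
  | base => exact ⟨dvd_rfl, by rw [Nat.div_self (hpos n), pow_one]⟩
  | succ m hm ih =>
    refine ⟨ih.1.trans (hd m), ?_⟩
    have h3 : N (m + 1) / N n = (N (m + 1) / N m) * (N m / N n) :=
      (Nat.div_mul_div_comm (hd m) ih.1).symm ▸ by
        rw [mul_comm (N m) (N n), Nat.mul_div_mul_right _ _ (hpos m)]
    rw [h3, pow_mul, h2, ih.2]

end Seq

theorem exists_normGen (p : ℕ) [Fact p.Prime] :
    ∃ γ : ℕ → AlgebraicClosure (ZMod p), NormGen p γ := by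
  have hp : p.Prime := Fact.out
  set K := AlgebraicClosure (ZMod p) with hK
  have : CharP K p := inferInstance
  have hpow : ∀ n, 1 ≤ n → ((p ^ n - 1 : ℕ) : K) ≠ 0 := by
    intro n hn
    rw [Nat.cast_sub (Nat.one_le_pow _ _ hp.pos)]
    simp [show n ≠ 0 by omega]
  have hpos : ∀ n, 1 ≤ n → 0 < p ^ n - 1 := fun n hn => by
    have := Nat.one_lt_pow (show n ≠ 0 by omega) hp.one_lt
    omega
  obtain ⟨δ, h1, h2⟩ := exists_seq' (K := K) (fun n => p ^ n.factorial - 1)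
    (fun n => Nat.pow_sub_one_dvd_pow_sub_one _ (Nat.factorial_dvd_factorial (Nat.le_succ n)))
    (fun n => hpow _ (Nat.factorial_pos n))
  refine ⟨fun f => δ f ^ ((p ^ f.factorial - 1) / (p ^ f - 1)), ⟨fun f hf => ?_, fun f m hf hm => ?_⟩⟩
  · have h3 : p ^ f - 1 ∣ p ^ f.factorial - 1 :=
      Nat.pow_sub_one_dvd_pow_sub_one _ (Nat.dvd_factorial hf le_rfl)
    exact ((h1 f).pow (hpos _ (Nat.factorial_pos f)) (Nat.div_mul_cancel h3).symm).eq_orderOf.symm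
  · have hfm : f ≤ f * m := Nat.le_mul_of_pos_right f hm
    have h3 : p ^ f - 1 ∣ p ^ f.factorial - 1 :=
      Nat.pow_sub_one_dvd_pow_sub_one _ (Nat.dvd_factorial hf le_rfl)
    have h4 : p ^ f - 1 ∣ p ^ (f * m) - 1 :=
      Nat.pow_sub_one_dvd_pow_sub_one _ (dvd_mul_right f m)
    have h5 : p ^ (f * m) - 1 ∣ p ^ (f * m).factorial - 1 :=
      Nat.pow_sub_one_dvd_pow_sub_one _ (Nat.dvd_factorial (Nat.mul_pos hf hm) le_rfl)
    obtain ⟨h6, h7⟩ := h2 f (f * m) hfm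
    show (δ (f * m) ^ _) ^ _ = δ f ^ _
    rw [← h7, ← pow_mul, ← pow_mul]
    congr 1
    have key : ∀ a b c d : ℕ, 0 < a → 0 < b → 0 < c → a ∣ b → b ∣ d → a ∣ c → c ∣ d →
        d / b * (b / a) = d / c * (c / a) := by
      rintro a b c d ha hb hc ⟨x, rfl⟩ ⟨y, rfl⟩ ⟨z, rfl⟩ ⟨w, hw⟩
      rw [Nat.mul_div_cancel_left _ ha, Nat.mul_div_cancel_left _ ha,
        Nat.mul_div_cancel_left _ hb, hw, Nat.mul_div_cancel_left _ hc]
      have : a * (x * y) = a * (z * w) := by rw [← mul_assoc, ← mul_assoc]; exact hw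
      have := Nat.eq_of_mul_eq_mul_left ha this
      rw [mul_comm y x, this, mul_comm]
    exact key _ _ _ _ (hpos f hf) (hpos _ (Nat.mul_pos hf hm)) (hpos _ (Nat.factorial_pos f)) h4 h5
      h3 h6

end Cfsg.Agent.H450.KGV
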